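import Mathlib
import Cfsg.Prelude.Def_IsolatedElements

/-!
# Isolated elements of prime power order
-/

namespace Cfsg.Agent.Lib.CharP

open Cfsg Subgroup

variable {G : Type*} [Group G] [Finite G] {p : ℕ} [Fact p.Prime] {x : G}

/-- An isolated element is central in every finite nilpotent (in particular `p`-) subgroup containing it. -/
theorem isolated_le_centralizer (hiso : IsIsolated x) {R : Subgroup G} (hR : IsPGroup p R)
    (hx : x ∈ R) : R ≤ centralizer ({x} : Set G) := by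
  have := hR.isNilpotent
  set D : Subgroup R := centralizer ({(⟨x, hx⟩ : R)} : Set R) with hD
  have hN : normalizer (D : Set R) ≤ D := by
    intro u hu
    have h1 : u * ⟨x, hx⟩ * u⁻¹ ∈ D :=
      (mem_normalizer_iff.mp hu _).mp (mem_centralizer_singleton_iff.mpr rfl)
    have h2 : Commute x ((u : G) * x * (u : G)⁻¹) :=
      (congrArg Subtype.val (mem_centralizer_singleton_iff.mp h1)).symm
    have h3 := mul_inv_eq_iff_eq_mul.mp (hiso u h2)
    exact mem_centralizer_singleton_iff.mpr (Subtype.ext h3)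
  have hDtop : D = ⊤ := by
    by_contra h
    exact (Group.normalizerCondition_of_isNilpotent D (lt_top_iff_ne_top.mpr h)).not_ge hN
  intro y hy
  exact mem_centralizer_singleton_iff.mpr (congrArg Subtype.val
    (mem_centralizer_singleton_iff.mp (hDtop.ge (mem_top (⟨y, hy⟩ : R)))))

/-- If `K` contains the isolated `p`-element `x` and a conjugate `g x g⁻¹`, the two are conjugate
in `K`. -/
theorem isolated_exists_conj_mem (hx : ∃ k : ℕ, orderOf x = p ^ k) (hiso : IsIsolated x)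
    {K : Subgroup G} (hxK : x ∈ K) {g : G} (hg : g * x * g⁻¹ ∈ K) :
    ∃ k ∈ K, k * (g * x * g⁻¹) * k⁻¹ = x := by
  obtain ⟨n, hn⟩ := hx
  have hz : ∀ z : K, orderOf z = p ^ n → ∃ U : Sylow p K, z ∈ (U : Subgroup K) := by
    intro z hz
    obtain ⟨U, hU⟩ := (IsPGroup.of_card (p := p) (n := n)
      (show Nat.card (zpowers z) = p ^ n by rw [Nat.card_zpowers, hz])).exists_le_sylow
    exact ⟨U, hU (mem_zpowers z)⟩
  obtain ⟨U, hU⟩ := hz ⟨x, hxK⟩ (by rw [← Subgroup.orderOf_coe]; exact hn)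
  obtain ⟨U', hU'⟩ := hz ⟨g * x * g⁻¹, hg⟩ (by
    rw [← Subgroup.orderOf_coe]
    exact ((MulAut.conj g).orderOf_eq x).trans hn)
  obtain ⟨c, hc⟩ := MulAction.exists_smul_eq K U' U
  refine ⟨c, c.2, ?_⟩
  have hmem : (c : G) * (g * x * g⁻¹) * (c : G)⁻¹ ∈ (U : Subgroup K).map K.subtype :=
    ⟨c * ⟨g * x * g⁻¹, hg⟩ * c⁻¹, hc.le ⟨_, hU', rfl⟩, rfl⟩
  have h1 : Commute x ((c : G) * (g * x * g⁻¹) * (c : G)⁻¹) :=
    (mem_centralizer_singleton_iff.mp
      (isolated_le_centralizer hiso (U.isPGroup'.map K.subtype) ⟨_, hU, rfl⟩ hmem)).symm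
  have h2 := hiso ((c : G) * g) (by simpa [mul_assoc] using h1)
  simpa [mul_assoc] using h2

/-- Powers of an isolated `p`-element: a conjugate power commuting with `x` is the power itself. -/
theorem isolated_pow_eq (hx : ∃ k : ℕ, orderOf x = p ^ k) (hiso : IsIsolated x) (m : ℤ) {g : G}
    (hc : Commute x ((g * x * g⁻¹) ^ m)) : (g * x * g⁻¹) ^ m = x ^ m := by
  obtain ⟨k, hk, hkx⟩ := isolated_exists_conj_mem hx hiso
    (K := centralizer ({(g * x * g⁻¹) ^ m} : Set G)) (g := g)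
    (mem_centralizer_singleton_iff.mpr hc.eq)
    (mem_centralizer_singleton_iff.mpr (Commute.self_zpow _ m).eq)
  have h1 : k * (g * x * g⁻¹) ^ m * k⁻¹ = x ^ m := by rw [← conj_zpow, hkx]
  rw [← h1, mem_centralizer_singleton_iff.mp hk, mul_inv_cancel_right]

end Cfsg.Agent.Lib.CharP
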