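import Cfsg.Agent.Lib.CharP.Basic

/-!
# Overgroups of a self-centralising normal subgroup of a Sylow subgroup have characteristic `p`
-/

namespace Cfsg.Agent.Lib.CharP

open Cfsg Subgroup
open scoped commutatorElement

variable {G : Type*} [Group G] {p : ℕ}

/-- If `g` normalises `R` and `C`, the elements acting trivially from `R` to `R / C`. -/
theorem exists_subgroup_trivial_mod [Finite G] (R C : Subgroup G) :
    ∃ A : Subgroup G, ∀ g : G, g ∈ A ↔
      (g ∈ normalizer (R : Set G) ∧ g ∈ normalizer (C : Set G) ∧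
        ∀ r ∈ R, g * r * g⁻¹ * r⁻¹ ∈ C) := by
  refine ⟨{
    carrier := {g | g ∈ normalizer (R : Set G) ∧ g ∈ normalizer (C : Set G) ∧
      ∀ r ∈ R, g * r * g⁻¹ * r⁻¹ ∈ C}
    one_mem' := ⟨one_mem _, one_mem _, fun r _ => by simp⟩
    mul_mem' := ?_
    inv_mem' := ?_ }, fun g => Iff.rfl⟩
  · rintro g h ⟨hg1, hg2, hg⟩ ⟨hh1, hh2, hh⟩
    refine ⟨mul_mem hg1 hh1, mul_mem hg2 hh2, fun r hr => ?_⟩
    have h1 := (mem_normalizer_iff.mp hg2 _).mp (hh r hr)
    have h2 := hg r hr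
    have e : g * h * r * (g * h)⁻¹ * r⁻¹
        = g * (h * r * h⁻¹ * r⁻¹) * g⁻¹ * (g * r * g⁻¹ * r⁻¹) := by group
    rw [e]
    exact mul_mem h1 h2
  · rintro g ⟨hg1, hg2, hg⟩
    refine ⟨inv_mem hg1, inv_mem hg2, fun r hr => ?_⟩
    have hr' : g⁻¹ * r * g ∈ R := by
      simpa using (mem_normalizer_iff.mp (inv_mem hg1) r).mp hr
    have h2 := inv_mem (hg _ hr')
    simpa [mul_assoc] using h2

theorem centralizer_pCore_le_of_sylow [Finite G] [Fact p.Prime]
    (hG : centralizer (pCore p G : Set G) ≤ pCore p G) (T : Sylow p G) {Q : Subgroup G}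
    (hQT : Q ≤ T) (hQn : (T : Subgroup G) ≤ normalizer (Q : Set G))
    (hC : (T : Subgroup G) ⊓ centralizer (Q : Set G) ≤ Q) {L : Subgroup G} (hQL : Q ≤ L) :
    centralizer (pCore p L : Set L) ≤ pCore p L := by
  set R := pCore p G with hR
  have hQ : IsPGroup p Q := T.isPGroup'.to_le hQT
  have hRT : R ≤ T := PSolvable.pCore_le_sylow T
  have hRn : ∀ g : G, g ∈ normalizer (R : Set G) := fun g => by
    rw [normalizer_eq_top]; exact mem_top g
  -- `R ⊓ L ≤ O_p(L)`
  have hRL : R ⊓ L ≤ pCoreOf p L := le_pCoreOf inf_le_right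
    (PSolvable.pCore_isPGroup.to_le inf_le_left)
    fun g hg => inf_normalizer_le_normalizer_inf ⟨hRn g, le_normalizer hg⟩
  set K := L ⊓ centralizer (pCoreOf p L : Set G) with hK
  have hKRQ : K ≤ centralizer ((R ⊓ Q : Subgroup G) : Set G) :=
    inf_le_right.trans (centralizer_le fun y hy => hRL ⟨hy.1, hQL hy.2⟩)
  have hLK : L ≤ normalizer (K : Set G) :=
    Coprime.le_normalizer_inf_centralizer le_normalizer (le_normalizer_pCoreOf L)
  have hKn : K ≤ normalizer ((R ⊓ Q : Subgroup G) : Set G) :=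
    hKRQ.trans (centralizer_le_normalizer _)
  obtain ⟨A, hA⟩ := exists_subgroup_trivial_mod R (R ⊓ Q)
  have hQA : Q ≤ A := fun q hq => (hA q).mpr ⟨hRn q,
    inf_normalizer_le_normalizer_inf ⟨hRn q, le_normalizer hq⟩, fun r hr => by
      refine ⟨R.mul_mem ((mem_normalizer_iff.mp (hRn q) r).mp hr) (R.inv_mem hr), ?_⟩
      have h1 := (mem_normalizer_iff.mp (hQn (hRT hr)) q⁻¹).mp (inv_mem hq)
      simpa [mul_assoc] using mul_mem hq h1⟩
  have hKQA : ⁅K, Q⁆ ≤ A := by
    rw [commutator_le]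
    intro k hk q hq
    have hkq : k * q * k⁻¹ ∈ A := by
      refine (hA _).mpr ⟨hRn _, mul_mem (mul_mem (hKn hk) ((hA q).mp (hQA hq)).2.1)
        (inv_mem (hKn hk)), fun r hr => ?_⟩
      have hr' : k⁻¹ * r * k ∈ R := by
        simpa using (mem_normalizer_iff.mp (hRn k⁻¹) r).mp hr
      have h1 := (mem_normalizer_iff.mp (hKn hk) _).mp (((hA q).mp (hQA hq)).2.2 _ hr')
      simpa [mul_assoc] using h1
    simpa [commutatorElement_def, mul_assoc] using mul_mem hkq (inv_mem (hQA hq))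
  have hKQK : ⁅K, Q⁆ ≤ K := Coprime.commutator_le_of_le_normalizer (hQL.trans hLK)
  -- `⁅K, Q⁆` is a `p`-group
  have hP : IsPGroup p (⁅K, Q⁆ : Subgroup G) := by
    refine isPGroup_of_forall fun z hz hzc => eq_one_of_centralizes_pCore hG hzc fun r hr => ?_
    refine commute_of_commutator_mem (PSolvable.pCore_isPGroup.to_le inf_le_left) hzc
      (hKRQ (hKQK hz)) ?_
    have h1 := inv_mem (((hA z).mp (hKQA hz)).2.2 r hr)
    simpa [mul_assoc] using h1
  have hPL : ⁅K, Q⁆ ≤ pCoreOf p L := by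
    have h1 : ⁅K, Q⁆ ≤ pCoreOf p K := le_pCoreOf hKQK hP (normalizer_commutator_ge_left K Q)
    refine h1.trans (le_pCoreOf ((pCoreOf_le K).trans inf_le_left) (pCoreOf_isPGroup K) ?_)
    have key : ∀ a ∈ L, ∀ y ∈ pCoreOf p K, a * y * a⁻¹ ∈ pCoreOf p K := by
      intro a ha
      have hKa : K.map (MulAut.conj a).toMonoidHom = K :=
        le_antisymm (by rintro _ ⟨y, hy, rfl⟩; exact (mem_normalizer_iff.mp (hLK ha) y).mp hy)
          fun y hy => ⟨a⁻¹ * y * a, by
            simpa using (mem_normalizer_iff.mp (hLK (inv_mem ha)) y).mp hy, by simp [mul_assoc]⟩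
      have h2 : (pCoreOf p K).map (MulAut.conj a).toMonoidHom ≤ pCoreOf p K := by
        refine le_pCoreOf ((map_mono (pCoreOf_le K)).trans hKa.le) ((pCoreOf_isPGroup K).map _) ?_
        exact hKa.ge.trans ((map_mono (le_normalizer_pCoreOf K)).trans (le_normalizer_map _))
      exact fun y hy => h2 ⟨y, hy, rfl⟩
    intro a ha
    rw [mem_normalizer_iff]
    refine fun y => ⟨key a ha y, fun h => ?_⟩
    simpa [mul_assoc] using key a⁻¹ (inv_mem ha) _ h
  refine centralizer_pCore_le_of_forall fun x hxL hx hxc => ?_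
  have hxK : x ∈ K := ⟨hxL, hxc⟩
  have hxQ : Q ≤ centralizer (zpowers x : Set G) := by
    intro q hq
    rw [mem_centralizer_iff]
    intro y hy
    obtain ⟨n, rfl⟩ := mem_zpowers_iff.mp hy
    refine Commute.zpow_left ?_ n
    have h1 : q * x * q⁻¹ * x⁻¹ ∈ pCoreOf p L := by
      have h2 : x * q * x⁻¹ * q⁻¹ ∈ pCoreOf p L := hPL (commutator_mem_commutator hxK hq)
      simpa [mul_assoc] using inv_mem h2
    exact (commute_of_commutator_mem (pCoreOf_isPGroup L) hx hxc h1).symm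
  refine eq_one_of_centralizes_pCore hG hx fun r hr => ?_
  refine mem_centralizer_iff.mp (Coprime.thompson_PxQ (U := R) (Q := zpowers x) hQ ?_
    PSolvable.pCore_isPGroup hxQ le_normalizer_of_normal le_normalizer_of_normal ?_
    (mem_zpowers x)) r hr
  · rwa [Nat.card_zpowers]
  · exact (show R ⊓ centralizer (Q : Set G) ≤ R ⊓ Q from
      le_inf inf_le_left ((inf_le_inf_right _ hRT).trans hC)).trans
      (le_centralizer_iff.mp (zpowers_le.mpr (hKRQ hxK)))

end Cfsg.Agent.Lib.CharP
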